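import Mathlib
import Cfsg.Agent.Lib.PGroup.MaxClassRecog
import Cfsg.Agent.Lib.Invol.MaxClassTwo
import Cfsg.Prelude.Def_CaseTheorems

/-!
A finite two-group acting with fixity two: a proper nontrivial point stabilizer has index two, or it has
order two and the group is dihedral or quasi-dihedral.
-/

set_option autoImplicit false

open MulAction

namespace CfsgLib.Char.FixityTwo

theorem quaternion_involution_central {m : ℕ} [NeZero m] {q : QuaternionGroup m} (hq : orderOf q = 2)
    (x : QuaternionGroup m) : q * x = x * q := by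
  rcases q with i | i
  · have h : QuaternionGroup.a (i + i) = (1 : QuaternionGroup m) := by
      rw [← QuaternionGroup.a_mul_a, ← pow_two, ← hq, pow_orderOf_eq_one]
    rw [QuaternionGroup.one_def, QuaternionGroup.a.injEq] at h
    rcases x with j | j
    · rw [QuaternionGroup.a_mul_a, QuaternionGroup.a_mul_a, add_comm]
    · rw [QuaternionGroup.a_mul_xa, QuaternionGroup.xa_mul_a]
      congr 1
      linear_combination (-1 : ZMod (2 * m)) * h
  · rw [QuaternionGroup.orderOf_xa] at hq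
    norm_num at hq

variable {S : Type*} [Group S] [Finite S] {Ω : Type*} [MulAction S Ω] [Finite Ω]

theorem eq_or_eq_of_fix (hfix : ∀ g : S, g ≠ 1 → Nat.card (fixedBy Ω g) ≤ 2) {t : S} (ht : t ≠ 1)
    {α β ω : Ω} (hab : β ≠ α) (ha : t • α = α) (hb : t • β = β) (hw : t • ω = ω) : ω = α ∨ ω = β := by
  by_contra hne
  push Not at hne
  have h3 : ({α, β, ω} : Set Ω) ⊆ fixedBy Ω t := by
    rintro x (rfl | rfl | rfl) <;> assumption
  have hc : ({α, β, ω} : Set Ω).ncard = 3 :=
    Set.ncard_eq_three.2 ⟨α, β, ω, hab.symm, Ne.symm hne.1, Ne.symm hne.2, rfl⟩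
  have := Set.ncard_le_ncard h3
  rw [hc, ← Nat.card_coe_set_eq] at this
  have := hfix t ht
  omega

/-- The shape of a two-group with a self-centralizing four-element subgroup containing a non-central involution. -/
theorem shape_of_centralizer (h2 : IsPGroup 2 S) {t : S} (ht : orderOf t = 2) (M : Subgroup S)
    (hM : Nat.card M = 4) (htM : t ∈ M) (hC : Subgroup.centralizer ({t} : Set S) ≤ M) (hne : M ≠ ⊤) :
    (∃ n : ℕ, Nonempty (S ≃* DihedralGroup n)) ∨ Cfsg.IsQuasiDihedral S := by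
  haveI : Fact (Nat.Prime 2) := ⟨Nat.prime_two⟩
  obtain ⟨n, hn⟩ := IsPGroup.iff_card.1 h2
  have hn3 : 3 ≤ n := by
    have hlt : 4 < 2 ^ n := by
      rw [← hn, ← hM]
      exact lt_of_le_of_ne (Nat.le_of_dvd Nat.card_pos M.card_subgroup_dvd_card)
        fun h => hne (Subgroup.eq_top_of_card_eq M h)
    by_contra h
    have : 2 ^ n ≤ 2 ^ 2 := Nat.pow_le_pow_right two_pos (by omega)
    norm_num at this
    omega
  have hcomm := IsPGroup.commutative_of_card_eq_prime_sq (p := 2) (G := M) (by rw [hM]; norm_num)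
  have hself : Subgroup.centralizer (M : Set S) = M := by
    refine le_antisymm (le_trans (Subgroup.centralizer_le (by simpa using htM)) hC) fun x hx => ?_
    rw [Subgroup.mem_centralizer_iff]
    intro y hy
    exact congrArg Subtype.val (hcomm ⟨y, hy⟩ ⟨x, hx⟩)
  have hcl := CfsgLib.PGroup.maximalClass_of_selfCentralizing n S hn M (by rw [hM]; norm_num) hself
  obtain ⟨r, e, a, b, hst, F⟩ := CfsgLib.PGroup.exists_frame_two hn3 hn
    (CfsgLib.PGroup.index_commutator_of_maximal_two hn3 hn hcl)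
  rcases CfsgLib.Invol.cases_of_std hst F with hd | ⟨⟨eq⟩⟩ | hq
  · exact Or.inl ⟨_, hd⟩
  · exfalso
    haveI : NeZero (2 ^ (n - 1 - 1)) := ⟨(Nat.two_pow_pos _).ne'⟩
    refine hne (top_le_iff.1 (le_trans ?_ hC))
    intro x _
    rw [Subgroup.mem_centralizer_singleton_iff]
    apply eq.injective
    rw [map_mul, map_mul]
    exact (quaternion_involution_central (by rw [MulEquiv.orderOf_eq, ht]) (eq x)).symm
  · exact Or.inr hq

/-- The point stabilizer of a two-group of fixity two. -/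
theorem stab_dichotomy (h2 : IsPGroup 2 S) (hfix : ∀ g : S, g ≠ 1 → Nat.card (fixedBy Ω g) ≤ 2) (α : Ω)
    (hT : stabilizer S α ≠ ⊥) (hT' : stabilizer S α ≠ ⊤) :
    ∃ β : Ω, β ≠ α ∧ stabilizer S β = stabilizer S α ∧ (∃ u : S, u • α = β) ∧
      (∀ t ∈ stabilizer S α, t ≠ 1 → ∀ ω : Ω, t • ω = ω → ω = α ∨ ω = β) ∧
      (((∀ g : S, g • α = α ∨ g • α = β) ∧ (stabilizer S α).index = 2) ∨
        (Nat.card (stabilizer S α) = 2 ∧
          ((∃ n : ℕ, Nonempty (S ≃* DihedralGroup n)) ∨ Cfsg.IsQuasiDihedral S))) := by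
  haveI : Fact (Nat.Prime 2) := ⟨Nat.prime_two⟩
  haveI := h2.isNilpotent
  set T := stabilizer S α with hTdef
  obtain ⟨u, huM, huT⟩ := SetLike.exists_of_lt
    ((Group.normalizerCondition_of_isNilpotent (G := S)) T (lt_top_iff_ne_top.2 hT'))
  set β := u • α with hβ
  have hne : β ≠ α := fun h => huT h
  set M := Subgroup.normalizer (T : Set S) with hMdef
  have hmapM : ∀ g ∈ M, stabilizer S (g • α) = T := by
    intro g hg
    rw [stabilizer_smul_eq_stabilizer_map_conj]
    ext x
    rw [Subgroup.mem_map]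
    constructor
    · rintro ⟨y, hy, rfl⟩
      exact (Subgroup.mem_normalizer_iff.1 hg y).1 hy
    · intro hx
      refine ⟨g⁻¹ * x * g, ?_, by simp [MulAut.conj_apply, mul_assoc]⟩
      rw [← hTdef, Subgroup.mem_normalizer_iff.1 hg, show g * (g⁻¹ * x * g) * g⁻¹ = x by group]
      exact hx
  have hβT : stabilizer S β = T := hmapM u huM
  have hb : ∀ t ∈ T, t • β = β := fun t ht => by rw [← hβT] at ht; exact ht
  obtain ⟨t₀, ht₀, ht₁⟩ := T.ne_bot_iff_exists_ne_one.1 hT |> fun ⟨x, hx⟩ =>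
    (⟨x.1, x.2, fun h => hx (Subtype.ext h)⟩ : ∃ t, t ∈ T ∧ t ≠ 1)
  have hF : ∀ t ∈ T, t ≠ 1 → ∀ ω : Ω, t • ω = ω → ω = α ∨ ω = β :=
    fun t ht h1 ω hw => eq_or_eq_of_fix hfix h1 hne ht (hb t ht) hw
  refine ⟨β, hne, hβT, ⟨u, rfl⟩, hF, ?_⟩
  have hMiff : ∀ g : S, g ∈ M ↔ (g • α = α ∨ g • α = β) := by
    intro g
    constructor
    · intro hg
      have : t₀ ∈ stabilizer S (g • α) := by rw [hmapM g hg]; exact ht₀
      exact hF t₀ ht₀ ht₁ _ this
    · intro hg
      have h : stabilizer S (g • α) = T := by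
        rcases hg with h | h
        · rw [h]
        · rw [h, hβT]
      rw [stabilizer_smul_eq_stabilizer_map_conj, ← hTdef] at h
      rw [hMdef, Subgroup.mem_normalizer_iff]
      intro x
      constructor
      · intro hx
        rw [← h]
        exact ⟨x, hx, rfl⟩
      · intro hx
        rw [← h] at hx
        obtain ⟨y, hy, hyx⟩ := hx
        simp only [MulEquiv.coe_toMonoidHom, MulAut.conj_apply, mul_right_inj, mul_left_inj] at hyx
        exact hyx ▸ hy
  have huu : u • β = α := by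
    have h1 : u * u ∈ M := mul_mem huM huM
    rcases (hMiff _).1 h1 with h | h <;> rw [mul_smul, ← hβ] at h
    · exact h
    · exfalso
      have : u ∈ stabilizer S β := h
      exact huT (hβT ▸ this)
  have hrel : T.relIndex M = 2 := by
    rw [Subgroup.relIndex, Subgroup.index_eq_two_iff]
    refine ⟨⟨u, huM⟩, fun b => ?_⟩
    rw [Subgroup.mem_subgroupOf, Subgroup.mem_subgroupOf, Subgroup.coe_mul]
    rcases (hMiff b.1).1 b.2 with h | h
    · exact Or.inr ⟨h, fun h' => by
        have h'' : (b.1 * u) • α = α := h'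
        rw [mul_smul, ← hβ] at h''
        exact hne (smul_left_cancel b.1 (h''.trans h.symm))⟩
    · refine Or.inl ⟨?_, fun h' => hne (h.symm.trans h')⟩
      show (b.1 * u) • α = α
      rcases (hMiff (b.1 * u)).1 (mul_mem b.2 huM) with h' | h'
      · exact h'
      · rw [mul_smul, ← hβ] at h'
        exact absurd (smul_left_cancel b.1 (h'.trans h.symm)) hne
  have hcardM : Nat.card M = Nat.card T * 2 := by
    have hle : T ≤ M := Subgroup.le_normalizer
    rw [← Nat.card_congr (Subgroup.subgroupOfEquivOfLe hle).toEquiv, ← hrel, Subgroup.relIndex,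
      Subgroup.card_mul_index]
  by_cases hMtop : M = ⊤
  · refine Or.inl ⟨fun g => (hMiff g).1 (hMtop ▸ Subgroup.mem_top g), ?_⟩
    rw [← Subgroup.relIndex_top_right, ← hMtop, hrel]
  right
  obtain ⟨v, hvN, hvM⟩ := SetLike.exists_of_lt
    ((Group.normalizerCondition_of_isNilpotent (G := S)) M (lt_top_iff_ne_top.2 hMtop))
  have hcard2 : Nat.card T = 2 := by
    have hinj : Function.Injective fun p : ↥T × ↥T =>
        (⟨p.1.1 * (v * p.2.1 * v⁻¹), mul_mem (Subgroup.le_normalizer p.1.2)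
          ((Subgroup.mem_normalizer_iff.1 hvN _).1 (Subgroup.le_normalizer p.2.2))⟩ : ↥M) := by
      rintro ⟨a, b⟩ ⟨c, d⟩ h
      have h' : a.1 * (v * b.1 * v⁻¹) = c.1 * (v * d.1 * v⁻¹) := congrArg Subtype.val h
      have hx : c.1⁻¹ * a.1 = v * (d.1 * b.1⁻¹) * v⁻¹ := by
        have := congrArg (fun z => c.1⁻¹ * z * (v * b.1 * v⁻¹)⁻¹) h'
        simpa [mul_assoc] using this
      have hbd : d.1 * b.1⁻¹ = 1 := by
        by_contra hne1
        have hxT : c.1⁻¹ * a.1 ∈ T := mul_mem (inv_mem c.2) a.2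
        have hx1 : c.1⁻¹ * a.1 ≠ 1 := by rw [hx]; simpa using hne1
        have : (c.1⁻¹ * a.1) • (v • α) = v • α := by
          rw [hx, mul_smul, mul_smul, inv_smul_smul]
          exact congrArg (v • ·) (show (d.1 * b.1⁻¹) • α = α from mul_mem d.2 (inv_mem b.2))
        exact hvM ((hMiff v).2 (hF _ hxT hx1 _ this))
      rw [hbd, mul_one, mul_inv_cancel, inv_mul_eq_one] at hx
      exact Prod.ext (Subtype.ext hx.symm) (Subtype.ext (mul_inv_eq_one.1 hbd).symm)
    have hle := Nat.card_le_card_of_injective _ hinj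
    rw [Nat.card_prod, hcardM] at hle
    have h1 : 1 < Nat.card T := T.one_lt_card_iff_ne_bot.2 hT
    have := Nat.le_of_mul_le_mul_left hle (by omega)
    omega
  have ht₂ : orderOf t₀ = 2 := by
    have h := orderOf_dvd_natCard (⟨t₀, ht₀⟩ : ↥T)
    rw [hcard2, Subgroup.orderOf_mk] at h
    rcases (Nat.dvd_prime Nat.prime_two).1 h with h | h
    · exact absurd (orderOf_eq_one_iff.1 h) ht₁
    · exact h
  refine ⟨hcard2, shape_of_centralizer h2 ht₂ M (by rw [hcardM, hcard2]) (Subgroup.le_normalizer ht₀) ?_ hMtop⟩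
  intro g hg
  rw [Subgroup.mem_centralizer_singleton_iff] at hg
  refine (hMiff g).2 (hF t₀ ht₀ ht₁ _ ?_)
  rw [← mul_smul, ← hg, mul_smul, show t₀ • α = α from ht₀]

end CfsgLib.Char.FixityTwo
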