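import Mathlib
import Cfsg.Prelude.Def_Solvable
import Cfsg.Agent.Lib.Char.FixityTwo.LocalTwo

/-!
A transitive group of fixity two with one short orbit of a Sylow two-subgroup has a normal subgroup of
index two which is split by a point stabilizer into Frobenius type.
-/

set_option autoImplicit false

open MulAction

namespace CfsgLib.Char.FixityTwo

theorem units_int_pow_odd (a : ℤˣ) {m : ℕ} (hm : Odd m) : a ^ m = a := by
  obtain ⟨k, rfl⟩ := hm
  rw [pow_succ, pow_mul, Int.units_sq, one_pow, one_mul]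

/-- The sign of a permutation all whose moved points have the same even period. -/
theorem sign_of_period {α : Type*} [Fintype α] [DecidableEq α] (σ : Equiv.Perm α) {d : ℕ} (hd : Even d)
    (hd0 : 0 < d) (hpow : σ ^ d = 1) (hreg : ∀ x, ∀ i : ℕ, σ x ≠ x → 0 < i → i < d → (σ ^ i) x ≠ x)
    {M : ℕ} (hM : Nat.card {x // σ x ≠ x} = M) : Equiv.Perm.sign σ = (-1) ^ (M / d) := by
  have hcyc : σ.cycleType = Multiset.replicate σ.cycleType.card d := by
    rw [Multiset.eq_replicate_card]
    intro n hn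
    obtain ⟨c, g, rfl, hdis, hc, rfl⟩ := Equiv.Perm.mem_cycleType_iff.1 hn
    obtain ⟨x, hx, -⟩ := id hc
    have hgx : g x = x := (hdis x).resolve_left hx
    have hpowx : ∀ i : ℕ, ((c * g) ^ i) x = (c ^ i) x := by
      intro i
      rw [hdis.commute.mul_pow, Equiv.Perm.mul_apply, Equiv.Perm.pow_apply_eq_self_of_apply_eq_self hgx]
    have hmoved : (c * g) x ≠ x := by rw [Equiv.Perm.mul_apply, hgx]; exact hx
    have hle : c.support.card ∣ d := by
      rw [← hc.orderOf, orderOf_dvd_iff_pow_eq_one]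
      exact hc.pow_eq_one_iff.2 ⟨x, hx, by rw [← hpowx, hpow]; rfl⟩
    rcases (Nat.le_of_dvd hd0 hle).eq_or_lt with h | h
    · exact h
    · exfalso
      refine hreg x _ hmoved ?_ h ?_
      · exact Nat.lt_of_lt_of_le two_pos hc.two_le_card_support
      · rw [hpowx, ← hc.orderOf, pow_orderOf_eq_one]; rfl
  rw [Equiv.Perm.sign_of_cycleType, show σ.cycleType.sum = σ.cycleType.card * d by
    conv_lhs => rw [hcyc]
    simp]
  have hMd : σ.cycleType.card * d = M := by
    rw [← hM, show σ.cycleType.card * d = σ.cycleType.sum by conv_rhs => rw [hcyc]; simp,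
      σ.sum_cycleType, Nat.card_eq_fintype_card]
    exact (Fintype.card_of_subtype _ fun x => Equiv.Perm.mem_support).symm
  rw [pow_add, (hd.mul_left _).neg_one_pow, one_mul, ← hMd, Nat.mul_div_cancel _ hd0]

/-- A transitive action and a sign character trivial on a stabilizer give a labelling of the points. -/
theorem exists_label {G Ω : Type*} [Group G] [MulAction G Ω] [IsPretransitive G Ω] (φ : G →* ℤˣ) (α : Ω)
    (hα : ∀ g : G, g • α = α → φ g = 1) :
    ∃ χ : Ω → ℤˣ, χ α = 1 ∧ ∀ (g : G) (ω : Ω), χ (g • ω) = φ g * χ ω := by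
  choose c hc using fun ω : Ω => exists_smul_eq G α ω
  have key : ∀ (g : G) (ω : Ω), g • α = ω → φ (c ω) = φ g := by
    intro g ω hg
    have h := hα (g⁻¹ * c ω) (by rw [mul_smul, hc, ← hg, inv_smul_smul])
    rw [map_mul, map_inv, inv_mul_eq_one] at h
    exact h.symm
  exact ⟨fun ω => φ (c ω), (key 1 α (one_smul G α)).trans (map_one φ),
    fun g ω => (key (g * c ω) _ (by rw [mul_smul, hc])).trans (map_mul φ g (c ω))⟩

variable {G : Type*} [Group G] [Finite G] {Ω : Type*} [Fintype Ω] [MulAction G Ω] [FaithfulSMul G Ω]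

/-- With one orbit of length two and all others regular, a normal subgroup of index two is of Frobenius type. -/
theorem exists_normal_index_two [IsPretransitive G Ω] (hfix : ∀ g : G, g ≠ 1 → Nat.card (fixedBy Ω g) ≤ 2)
    (S : Sylow 2 G) {α β : Ω} (hne : β ≠ α) {u : ↥(S : Subgroup G)} (hu : u • α = β)
    (horb : ∀ g : ↥(S : Subgroup G), g • α = α ∨ g • α = β)
    (hind : (stabilizer ↥(S : Subgroup G) α).index = 2) (hT : stabilizer ↥(S : Subgroup G) α ≠ ⊥)
    (hβ : stabilizer ↥(S : Subgroup G) β = stabilizer ↥(S : Subgroup G) α)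
    (hreg : ∀ ω : Ω, ω ≠ α → ω ≠ β → stabilizer ↥(S : Subgroup G) ω = ⊥) :
    ∃ N : Subgroup G, N.Normal ∧ N.index = 2 ∧ ∃ H : Subgroup ↥N, Cfsg.IsFrobeniusComplement H := by
  classical
  haveI : Fact (Nat.Prime 2) := ⟨Nat.prime_two⟩
  haveI : Fintype G := Fintype.ofFinite G
  set T := stabilizer ↥(S : Subgroup G) α with hTdef
  set c := Nat.card ↥(S : Subgroup G) with hc
  have hcT : c = Nat.card T * 2 := by rw [hc, ← T.card_mul_index, hind]
  obtain ⟨e, he⟩ := IsPGroup.iff_card.1 S.2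
  have hc2 : c = 2 ^ e := he
  have hswap : ∀ g : ↥(S : Subgroup G), g ∉ T → g • α = β ∧ g • β = α := by
    intro g hg
    have h1 : g • α = β := (horb g).resolve_left hg
    refine ⟨h1, ?_⟩
    rcases horb (g * g) with h | h <;> rw [mul_smul, h1] at h
    · exact h
    · exact absurd (show g ∈ T by rw [← hβ]; exact h) hg
  have hfixT : ∀ t ∈ T, t • α = α ∧ t • β = β := fun t ht => ⟨ht, by
    have h : t ∈ stabilizer ↥(S : Subgroup G) β := by rw [hβ]; exact ht
    exact h⟩
  have hfree : ∀ (g : ↥(S : Subgroup G)) (ω : Ω), ω ≠ α → ω ≠ β → g • ω = ω → g = 1 := by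
    intro g ω h1 h2 h
    have : g ∈ stabilizer ↥(S : Subgroup G) ω := h
    rwa [hreg ω h1 h2, Subgroup.mem_bot] at this
  -- the number of points outside the short orbit
  set R := Nat.card {ω : Ω // ω ≠ α ∧ ω ≠ β} with hR
  have hcR : c ∣ R := by
    have hmove : ∀ (g : ↥(S : Subgroup G)) (ω : Ω), ω ≠ α ∧ ω ≠ β → g • ω ≠ α ∧ g • ω ≠ β := by
      intro g ω hω
      by_cases hg : g ∈ T
      · exact ⟨fun h => hω.1 (smul_left_cancel g (h.trans (hfixT g hg).1.symm)),
          fun h => hω.2 (smul_left_cancel g (h.trans (hfixT g hg).2.symm))⟩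
      · exact ⟨fun h => hω.2 (smul_left_cancel g (h.trans (hswap g hg).2.symm)),
          fun h => hω.1 (smul_left_cancel g (h.trans (hswap g hg).1.symm))⟩
    letI : MulAction ↥(S : Subgroup G) {ω : Ω // ω ≠ α ∧ ω ≠ β} :=
      { smul := fun g x => ⟨g • x.1, hmove g x.1 x.2⟩
        one_smul := fun x => Subtype.ext (one_smul _ x.1)
        mul_smul := fun g h x => Subtype.ext (mul_smul g h x.1) }
    have hst : ∀ x : {ω : Ω // ω ≠ α ∧ ω ≠ β}, stabilizer ↥(S : Subgroup G) x = ⊥ := fun x => by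
      rw [Subgroup.eq_bot_iff_forall]
      exact fun g hg => hfree g x.1 x.2.1 x.2.2 (congrArg Subtype.val hg)
    rw [hR, Nat.card_congr (MulAction.selfEquivOrbitsQuotientProd hst), Nat.card_prod]
    exact dvd_mul_left _ _
  have hn : Nat.card Ω = R + 2 := by
    rw [hR, Nat.card_eq_fintype_card, Nat.card_eq_fintype_card, Fintype.card_subtype]
    have : (Finset.univ.filter fun ω : Ω => ω ≠ α ∧ ω ≠ β) = ({α, β} : Finset Ω)ᶜ := by ext; simp
    rw [this, Finset.card_compl, Finset.card_pair hne.symm]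
    have : 2 ≤ Fintype.card Ω := by
      have := Finset.card_le_univ ({α, β} : Finset Ω)
      rwa [Finset.card_pair hne.symm] at this
    omega
  -- the two sign characters
  let sΩ : G →* ℤˣ := Equiv.Perm.sign.comp (MulAction.toPermHom G Ω)
  let sG : G →* ℤˣ := Equiv.Perm.sign.comp (MulAction.toPermHom G G)
  have hd : ∀ g : ↥(S : Subgroup G), g ≠ 1 → Even (orderOf g) ∧ orderOf g ∣ c := by
    intro g hg
    refine ⟨?_, orderOf_dvd_natCard g⟩
    obtain ⟨j, -, hj⟩ := (Nat.dvd_prime_pow Nat.prime_two).1 (he ▸ orderOf_dvd_natCard g)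
    rcases j with _ | j
    · exact absurd (orderOf_eq_one_iff.1 (hj.trans (pow_zero 2))) hg
    · rw [hj, pow_succ]; exact even_two.mul_left _
  have hpowne : ∀ (g : ↥(S : Subgroup G)) (i : ℕ), 0 < i → i < orderOf g → g ^ i ≠ 1 :=
    fun g i h0 h1 => pow_ne_one_of_lt_orderOf h0.ne' h1
  have hG : ∀ g : ↥(S : Subgroup G), g ≠ 1 → sG g.1 = (-1) ^ (Nat.card G / orderOf g) := by
    intro g hg
    refine sign_of_period (MulAction.toPermHom G G g.1) (hd g hg).1 (orderOf_pos g) ?_ ?_ ?_
    · rw [← map_pow, ← SubgroupClass.coe_pow, pow_orderOf_eq_one, OneMemClass.coe_one, map_one]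
    · intro x i _ h0 h1 h
      rw [← map_pow] at h
      have h' : g.1 ^ i * x = x := h
      rw [mul_eq_right, ← SubgroupClass.coe_pow, OneMemClass.coe_eq_one] at h'
      exact hpowne g i h0 h1 h'
    · refine Nat.card_congr (Equiv.subtypeUnivEquiv fun x h => hg ?_)
      have h' : g.1 * x = x := h
      rw [mul_eq_right, OneMemClass.coe_eq_one] at h'
      exact h'
  have hΩT : ∀ g : ↥(S : Subgroup G), g ∈ T → g ≠ 1 → sΩ g.1 = (-1) ^ (R / orderOf g) := by
    intro g hgT hg
    refine sign_of_period (MulAction.toPermHom G Ω g.1) (hd g hg).1 (orderOf_pos g) ?_ ?_ ?_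
    · rw [← map_pow, ← SubgroupClass.coe_pow, pow_orderOf_eq_one, OneMemClass.coe_one, map_one]
    · intro x i hx h0 h1 h
      rw [← map_pow, ← SubgroupClass.coe_pow] at h
      exact hpowne g i h0 h1 (hfree _ x (fun e => hx (e ▸ (hfixT g hgT).1))
        (fun e => hx (e ▸ (hfixT g hgT).2)) h)
    · refine Nat.card_congr (Equiv.subtypeEquivRight fun x => ⟨fun hx => ⟨fun e => hx (e ▸ (hfixT g hgT).1),
        fun e => hx (e ▸ (hfixT g hgT).2)⟩, fun hx h => hg (hfree g x hx.1 hx.2 h)⟩)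
  have hΩU : ∀ g : ↥(S : Subgroup G), g ∉ T → sΩ g.1 = -(-1) ^ (R / orderOf g) := by
    intro g hgT
    have hg : g ≠ 1 := fun h => hgT (h ▸ one_mem T)
    set σ := MulAction.toPermHom G Ω g.1 with hσ
    have hσa : σ α = β := (hswap g hgT).1
    have hσb : σ β = α := (hswap g hgT).2
    set s := Equiv.swap α β with hs
    have hcomm : Commute σ s := by
      have h := Equiv.swap_apply_apply σ α β
      rw [hσa, hσb, Equiv.swap_comm] at h
      show σ * s = s * σ
      rw [hs]
      conv_rhs => rw [h]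
      rw [inv_mul_cancel_right]
    have hss : s * s = 1 := Equiv.swap_mul_self α β
    have hτ : Equiv.Perm.sign (σ * s) = (-1) ^ (R / orderOf g) := by
      refine sign_of_period (σ * s) (hd g hg).1 (orderOf_pos g) ?_ ?_ ?_
      · obtain ⟨j, hj⟩ := (hd g hg).1
        rw [hcomm.mul_pow, hσ, ← map_pow, ← SubgroupClass.coe_pow, pow_orderOf_eq_one, OneMemClass.coe_one,
          map_one, one_mul, hj, ← two_mul, pow_mul, pow_two, hss, one_pow]
      · intro x i hx h0 h1 h
        have hxa : x ≠ α := fun e => hx (by rw [e, Equiv.Perm.mul_apply, hs, Equiv.swap_apply_left, hσb])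
        have hxb : x ≠ β := fun e => hx (by rw [e, Equiv.Perm.mul_apply, hs, Equiv.swap_apply_right, hσa])
        have hsx : (s ^ i) x = x :=
          Equiv.Perm.pow_apply_eq_self_of_apply_eq_self (Equiv.swap_apply_of_ne_of_ne hxa hxb) i
        rw [hcomm.mul_pow, Equiv.Perm.mul_apply, hsx, hσ, ← map_pow, ← SubgroupClass.coe_pow] at h
        exact hpowne g i h0 h1 (hfree _ x hxa hxb h)
      · refine Nat.card_congr (Equiv.subtypeEquivRight fun x => ⟨fun hx => ?_, fun hx h => ?_⟩)
        · exact ⟨fun e => hx (by rw [e, Equiv.Perm.mul_apply, hs, Equiv.swap_apply_left, hσb]),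
            fun e => hx (by rw [e, Equiv.Perm.mul_apply, hs, Equiv.swap_apply_right, hσa])⟩
        · rw [Equiv.Perm.mul_apply, hs, Equiv.swap_apply_of_ne_of_ne hx.1 hx.2] at h
          exact hg (hfree g x hx.1 hx.2 h)
    show Equiv.Perm.sign σ = _
    rw [show σ = σ * s * s by rw [mul_assoc, hss, mul_one], map_mul, hτ, hs, Equiv.Perm.sign_swap hne.symm,
      mul_neg, mul_one]
  have hGdvd : c ∣ Nat.card G := (S : Subgroup G).card_subgroup_dvd_card
  have heven : ∀ {M d : ℕ}, c ∣ M → 2 * d ∣ c → 0 < d → (-1 : ℤˣ) ^ (M / d) = 1 := by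
    intro M d h1 h2 hd0
    obtain ⟨k, rfl⟩ := h2.trans h1
    rw [mul_assoc, mul_left_comm, Nat.mul_div_cancel_left _ hd0, pow_mul, Int.units_sq, one_pow]
  obtain ⟨φ, u₁, hu₁, hφu, hφ⟩ : ∃ (φ : G →* ℤˣ) (u₁ : ↥(S : Subgroup G)), u₁ ∉ T ∧ φ u₁.1 = -1 ∧
      (φ = sΩ ∨ φ = sG) := by
    have huT : u ∉ T := fun h => hne (hu.symm.trans h)
    by_cases hcase : ∃ g : ↥(S : Subgroup G), g ∉ T ∧ orderOf g < c
    · obtain ⟨g, hg, hlt⟩ := hcase
      refine ⟨sΩ, g, hg, ?_, Or.inl rfl⟩
      obtain ⟨j, hj, hj'⟩ := (Nat.dvd_prime_pow Nat.prime_two).1 (he ▸ orderOf_dvd_natCard g)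
      have hje : j < e := by
        rcases hj.eq_or_lt with h | h
        · rw [hj', h, ← hc2] at hlt; omega
        · exact h
      rw [hΩU g hg, heven hcR (by rw [hj', hc2, ← pow_succ']; exact pow_dvd_pow 2 hje) (orderOf_pos g)]
    · push Not at hcase
      refine ⟨sG, u, huT, ?_, Or.inr rfl⟩
      have hou : orderOf u = c :=
        le_antisymm (Nat.le_of_dvd Nat.card_pos (orderOf_dvd_natCard u)) (hcase u huT)
      rw [hG u (fun h => huT (h ▸ one_mem T)), hou]
      have hodd : Odd (Nat.card G / c) := by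
        rw [Nat.div_eq_of_eq_mul_left Nat.card_pos (by rw [mul_comm]; exact ((S : Subgroup G).card_mul_index).symm),
          ← Nat.not_even_iff_odd, even_iff_two_dvd]
        exact S.not_dvd_index
      exact hodd.neg_one_pow
  have hφT : ∀ t : ↥(S : Subgroup G), t ∈ T → φ t.1 = 1 := by
    intro t ht
    by_cases h1 : t = 1
    · rw [h1, OneMemClass.coe_one, map_one]
    have hdv : 2 * orderOf t ∣ c := by
      rw [hcT, mul_comm]
      refine mul_dvd_mul_right ?_ 2
      rw [← Subgroup.orderOf_mk (H := T) t ht]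
      exact orderOf_dvd_natCard _
    rcases hφ with rfl | rfl
    · rw [hΩT t ht h1]; exact heven hcR hdv (orderOf_pos t)
    · rw [hG t h1]; exact heven hGdvd hdv (orderOf_pos t)
  -- two-elements fixing points come from the stabilizer in the Sylow subgroup
  have hconj : ∀ y : G, (∃ j : ℕ, y ^ 2 ^ j = 1) → ∀ ω : Ω, y • ω = ω → y ≠ 1 →
      ∃ (g : G) (t : ↥(S : Subgroup G)), t ∈ T ∧ t.1 = g⁻¹ * y * g ∧ (g⁻¹ • ω = α ∨ g⁻¹ • ω = β) := by
    intro y ⟨j, hj⟩ ω hω hy
    have hP : IsPGroup 2 (Subgroup.zpowers y) := by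
      intro z
      obtain ⟨i, hi⟩ := Subgroup.mem_zpowers_iff.1 z.2
      refine ⟨j, Subtype.ext ?_⟩
      rw [SubgroupClass.coe_pow, ← hi, ← zpow_natCast, ← zpow_mul, mul_comm, zpow_mul, zpow_natCast, hj,
        one_zpow, OneMemClass.coe_one]
    obtain ⟨P, hP'⟩ := hP.exists_le_sylow
    obtain ⟨g, hg⟩ := MulAction.exists_smul_eq G S P
    have hyS : g⁻¹ * y * g ∈ (S : Subgroup G) := by
      have h : y ∈ ((g • S : Sylow 2 G) : Subgroup G) := by rw [hg]; exact hP' (Subgroup.mem_zpowers y)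
      rw [Sylow.coe_subgroup_smul, Subgroup.mem_pointwise_smul_iff_inv_smul_mem] at h
      simpa [MulAut.smul_def] using h
    have hfixω : (g⁻¹ * y * g) • (g⁻¹ • ω) = g⁻¹ • ω := by rw [mul_smul, smul_inv_smul, mul_smul, hω]
    have ht1 : (⟨_, hyS⟩ : ↥(S : Subgroup G)) ≠ 1 := fun h => hy (by
      have h' : g⁻¹ * y * g = 1 := congrArg Subtype.val h
      have : y = g * (g⁻¹ * y * g) * g⁻¹ := by group
      rw [this, h', mul_one, mul_inv_cancel])
    have hab : g⁻¹ • ω = α ∨ g⁻¹ • ω = β := by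
      by_contra h
      push Not at h
      exact ht1 (hfree ⟨_, hyS⟩ _ h.1 h.2 hfixω)
    refine ⟨g, ⟨_, hyS⟩, ?_, rfl, hab⟩
    rcases hab with h | h <;> rw [h] at hfixω
    · exact hfixω
    · rw [← hβ]; exact hfixω
  have hφα : ∀ x : G, x • α = α → φ x = 1 := by
    intro x hx
    obtain ⟨j, m, hm, hjm⟩ := Nat.exists_eq_two_pow_mul_odd (orderOf_pos x).ne'
    have hxm : φ (x ^ m) = 1 := by
      by_cases h1 : x ^ m = 1
      · rw [h1, map_one]
      obtain ⟨g, t, ht, hte, -⟩ := hconj (x ^ m) ⟨j, by rw [← pow_mul, mul_comm, ← hjm, pow_orderOf_eq_one]⟩ α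
        (pow_mem (show x ∈ stabilizer G α from hx) m) h1
      have h := hφT t ht
      rwa [hte, map_mul, map_mul, map_inv, mul_comm, ← mul_assoc, mul_inv_cancel, one_mul] at h
    rwa [map_pow, units_int_pow_odd _ hm] at hxm
  obtain ⟨χ, hχα, hχ⟩ := exists_label φ α hφα
  have hχβ : χ β = -1 := by
    rw [← (hswap u₁ hu₁).1]
    show χ (u₁.1 • α) = -1
    rw [hχ, hχα, hφu, mul_one]
  have hN2 : φ.ker.index = 2 := by
    rw [Subgroup.index_ker, MonoidHom.range_eq_top.2 ?_, Subgroup.card_top, Nat.card_eq_fintype_card,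
      Fintype.card_units_int]
    intro z
    rcases Int.units_eq_one_or z with rfl | rfl
    · exact ⟨1, map_one φ⟩
    · exact ⟨u₁.1, hφu⟩
  have hle : stabilizer G α ≤ φ.ker := fun x hx => MonoidHom.mem_ker.2 (hφα x hx)
  obtain ⟨t₀, ht₀, ht₁⟩ := T.ne_bot_iff_exists_ne_one.1 hT |> fun ⟨x, hx⟩ =>
    (⟨x.1, x.2, fun h => hx (Subtype.ext h)⟩ : ∃ t, t ∈ T ∧ t ≠ 1)
  refine ⟨φ.ker, φ.normal_ker, hN2, (stabilizer G α).subgroupOf φ.ker, ?_, ?_, ?_⟩
  · intro h
    rw [Subgroup.subgroupOf_eq_bot] at h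
    exact ht₁ (Subtype.ext (Subgroup.mem_bot.1 ((disjoint_iff_inf_le.1 h) ⟨ht₀, hle ht₀⟩)))
  · intro h
    rw [Subgroup.subgroupOf_eq_top] at h
    refine ht₁ (Subtype.ext (FaithfulSMul.eq_of_smul_eq_smul (α := Ω) fun ω => ?_))
    obtain ⟨g, rfl⟩ := exists_smul_eq G α ω
    have hmem : g⁻¹ * t₀.1 * g ∈ stabilizer G α :=
      h (φ.normal_ker.conj_mem' _ (hle ht₀) g)
    have h' : g • ((g⁻¹ * t₀.1 * g) • α) = g • α := congrArg (g • ·) hmem
    rw [mul_smul, mul_smul, smul_inv_smul] at h'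
    rw [OneMemClass.coe_one, one_smul]
    exact h'
  · intro g hg
    rw [Subgroup.eq_bot_iff_forall]
    rintro x ⟨hx1, hx2⟩
    by_contra hx
    replace hx1 : x.1 ∈ stabilizer G α := Subgroup.mem_subgroupOf.1 hx1
    replace hx2 : (MulAut.conj g)⁻¹ • x ∈ (stabilizer G α).subgroupOf φ.ker :=
      Subgroup.mem_pointwise_smul_iff_inv_smul_mem.1 hx2
    have hx2' : (g.1⁻¹ * x.1 * g.1) • α = α := by
      simpa [MulAut.smul_def, Subgroup.mem_subgroupOf] using hx2
    set γ := g.1 • α with hγ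
    have hγα : γ ≠ α := fun h => hg h
    have hxγ : x.1 • γ = γ := by
      have h := congrArg (g.1 • ·) hx2'
      simp only [mul_smul, smul_inv_smul] at h
      exact h
    have hχγ : χ γ = 1 := by rw [hγ, hχ, hχα, mul_one]; exact MonoidHom.mem_ker.1 g.2
    -- a power of prime order with the same fixed points
    have hx' : x.1 ≠ 1 := fun h => hx (Subtype.ext h)
    set p := (orderOf x.1).minFac with hp
    have hpp : p.Prime := Nat.minFac_prime (fun h => hx' (orderOf_eq_one_iff.1 h))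
    set y := x.1 ^ (orderOf x.1 / p) with hy
    have hop : orderOf y = p := orderOf_pow_orderOf_div (orderOf_pos _).ne' (Nat.minFac_dvd _)
    have hy1 : y ≠ 1 := fun h => by rw [h, orderOf_one] at hop; exact hpp.ne_one hop.symm
    have hyα : y • α = α := pow_mem (show x.1 ∈ stabilizer G α from hx1) _
    have hyγ : y • γ = γ := pow_mem (show x.1 ∈ stabilizer G γ from hxγ) _
    have honly : ∀ ω, y • ω = ω → ω = α ∨ ω = γ :=
      fun ω h => eq_or_eq_of_fix hfix hy1 hγα hyα hyγ h
    rcases hpp.eq_two_or_odd' with hp2 | hpodd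
    · obtain ⟨k, t, ht, hte, hk⟩ := hconj y ⟨1, by rw [pow_one, ← hp2, ← hop, pow_orderOf_eq_one]⟩ α hyα hy1
      have h1 : ∀ ω, t • ω = ω → ω = k⁻¹ • α ∨ ω = k⁻¹ • γ := by
        intro ω h
        have hyk : y • (k • ω) = k • ω := by
          have h' : t.1 • ω = ω := h
          rw [hte, mul_smul, mul_smul, inv_smul_eq_iff] at h'
          exact h'
        rcases honly _ hyk with e' | e'
        · exact Or.inl (by rw [← e', inv_smul_smul])
        · exact Or.inr (by rw [← e', inv_smul_smul])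
      have hsame : ∀ ω, (ω = k⁻¹ • α ∨ ω = k⁻¹ • γ) → χ ω = φ k⁻¹ := by
        rintro ω (rfl | rfl) <;> rw [hχ]
        · rw [hχα, mul_one]
        · rw [hχγ, mul_one]
      have ha := hsame α (h1 α (hfixT t ht).1)
      have hb := hsame β (h1 β (hfixT t ht).2)
      rw [hχα] at ha
      rw [hχβ, ← ha] at hb
      exact absurd hb (by decide)
    · haveI := Fact.mk hpp
      have hyN : φ y = 1 := hφα y hyα
      have hinv : ∀ ω : Ω, χ (MulAction.toPermHom G Ω y ω) = 1 ↔ χ ω = 1 := by
        intro ω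
        show χ (y • ω) = 1 ↔ _
        rw [hχ, hyN, one_mul]
      have hpow : (MulAction.toPermHom G Ω y) ^ p ^ 1 = 1 := by
        rw [pow_one, ← map_pow, ← hop, pow_orderOf_eq_one, map_one]
      have hmodΩ := Equiv.Perm.card_compl_support_modEq hpow
      have hmod1 := Equiv.Perm.card_compl_support_modEq (α := {ω : Ω // χ ω = 1})
        (σ := (MulAction.toPermHom G Ω y).subtypePerm (p := fun ω => χ ω = 1) hinv) (p := p) (n := 1) (by
          rw [Equiv.Perm.subtypePerm_pow]
          ext ω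
          simp only [Equiv.Perm.subtypePerm_apply, Equiv.Perm.one_apply]
          rw [hpow]; rfl)
      have e1 : (MulAction.toPermHom G Ω y).supportᶜ.card = 2 := by
        rw [show (MulAction.toPermHom G Ω y).supportᶜ = ({α, γ} : Finset Ω) by
          ext ω
          simp only [Finset.mem_compl, Equiv.Perm.mem_support, not_not, Finset.mem_insert,
            Finset.mem_singleton]
          exact ⟨honly ω, fun h => by rcases h with rfl | rfl <;> assumption⟩]
        exact Finset.card_pair (Ne.symm hγα)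
      have e2 : ((MulAction.toPermHom G Ω y).subtypePerm (p := fun ω => χ ω = 1) hinv).supportᶜ.card = 2 := by
        rw [show ((MulAction.toPermHom G Ω y).subtypePerm (p := fun ω => χ ω = 1) hinv).supportᶜ =
            ({⟨α, hχα⟩, ⟨γ, hχγ⟩} : Finset {ω : Ω // χ ω = 1}) by
          ext ω
          simp only [Finset.mem_compl, Equiv.Perm.mem_support, not_not, Finset.mem_insert,
            Finset.mem_singleton, Subtype.ext_iff, Equiv.Perm.subtypePerm_apply]
          exact ⟨honly ω.1, fun h => by rcases h with h | h <;> rw [h] <;> assumption⟩]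
        exact Finset.card_pair (fun h => hγα (congrArg Subtype.val h).symm)
      rw [e1] at hmodΩ
      rw [e2] at hmod1
      have hhalf : Fintype.card Ω = 2 * Fintype.card {ω : Ω // χ ω = 1} := by
        have hother : Fintype.card {ω : Ω // ¬ χ ω = 1} = Fintype.card {ω : Ω // χ ω = 1} := by
          refine (Fintype.card_congr ((MulAction.toPerm u₁.1).subtypeEquiv fun ω => ?_)).symm
          show χ ω = 1 ↔ ¬ χ (u₁.1 • ω) = 1
          rw [hχ, hφu]
          rcases Int.units_eq_one_or (χ ω) with h | h <;> rw [h] <;> decide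
        have hsum := Fintype.card_subtype_compl (fun ω : Ω => χ ω = 1)
        have hle' := Fintype.card_subtype_le (fun ω : Ω => χ ω = 1)
        omega
      rw [hhalf] at hmodΩ
      have h4 : 2 ≡ 2 * 2 [MOD p] := hmodΩ.trans (hmod1.symm.mul_left 2)
      have hdvd : p ∣ 2 := (Nat.modEq_iff_dvd' (by norm_num)).1 h4
      rw [(Nat.prime_dvd_prime_iff_eq hpp Nat.prime_two).1 hdvd] at hpodd
      exact absurd hpodd (by decide)

end CfsgLib.Char.FixityTwo
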